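import Mathlib

/-! Alternating maps determined by a generically generating tuple. -/

set_option autoImplicit false

noncomputable section

universe u

namespace Groth.Agent.Div89.DetTwist

open Module

theorem alternating_ext {A M N : Type u} [CommRing A] [AddCommGroup M] [Module A M] [AddCommGroup N]
    [Module A N] {r : ℕ} (g₁ g₂ : AlternatingMap A M N (Fin r)) (v₀ : Fin r → M) (h₀ : g₁ v₀ = g₂ v₀)
    (hgen : ∀ m : M, ∃ a : A, Function.Injective (fun n : N => a • n) ∧
      a • m ∈ Submodule.span A (Set.range v₀)) : g₁ = g₂ := by
  classical
  let l := Fintype.linearCombination A v₀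
  have hl : g₁.compLinearMap l = g₂.compLinearMap l := by
    refine Basis.ext_alternating (Pi.basisFun A (Fin r)) fun i hi => ?_
    let σ : Equiv.Perm (Fin r) := Equiv.ofBijective i (Finite.injective_iff_bijective.1 hi)
    have h : ∀ g : AlternatingMap A M N (Fin r),
        g.compLinearMap l (fun j => (Pi.basisFun A (Fin r)) (i j)) = Equiv.Perm.sign σ • g v₀ := fun g => by
      rw [AlternatingMap.compLinearMap_apply, ← g.map_perm v₀ σ]
      congr 1
      funext j
      simp [l, σ]
    rw [h, h, h₀]
  ext v
  choose a ha hm using fun j => hgen (v j)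
  choose c hc using fun j => (Submodule.mem_span_range_iff_exists_fun A).1 (hm j)
  have h1 : ∀ g : AlternatingMap A M N (Fin r), (∏ j, a j) • g v = g.compLinearMap l c := fun g => by
    rw [← g.map_smul_univ a v, AlternatingMap.compLinearMap_apply]
    congr 1
    funext j
    rw [← hc j]
    rfl
  have hinj : ∀ t : Finset (Fin r), Function.Injective fun n : N => (∏ j ∈ t, a j) • n := fun t => by
    induction t using Finset.induction with
    | empty => intro n m h; simpa using h
    | insert j t hj ih =>
      intro n m h
      simp only [Finset.prod_insert hj, mul_smul] at h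
      exact ih (ha j h)
  refine hinj Finset.univ ?_
  show (∏ j, a j) • g₁ v = (∏ j, a j) • g₂ v
  rw [h1, h1, hl]

end Groth.Agent.Div89.DetTwist
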