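import Groth.Agent.Div89.DetTwist.Inv
import Groth.Agent.Curves2.IdealFrame
import Groth.Agent.EGA73.Invertible
import Groth.Agent.Amp73.GlobGen

/-! An integral effective Cartier divisor and the powers of its dual ideal. -/

set_option autoImplicit false
set_option linter.style.haveILetI false
set_option backward.isDefEq.respectTransparency.types false

noncomputable section

universe u

open CategoryTheory AlgebraicGeometry TopologicalSpace IsLocalRing
open Groth.Agent.QC70 Groth.Agent.Props58.LocFree Groth.Agent.Div89.Ref1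

namespace Groth.Agent.Div89.DetTwist

variable {X : Scheme.{u}} {I : X.IdealSheafData} [IsIntegral I.subscheme]

/-- The generic point of the divisor. -/
def gen (I : X.IdealSheafData) [IsIntegral I.subscheme] : X := I.subschemeι (genericPoint I.subscheme)

lemma gen_mem_support : gen I ∈ I.support := by
  have h : gen I ∈ Set.range I.subschemeι := ⟨_, rfl⟩
  rwa [Scheme.IdealSheafData.range_subschemeι] at h

lemma gen_specializes {x : X} (hx : x ∈ I.support) : gen I ⤳ x := by
  obtain ⟨y, rfl⟩ : x ∈ Set.range I.subschemeι := by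
    rw [Scheme.IdealSheafData.range_subschemeι]; exact hx
  exact ((genericPoint_spec I.subscheme).specializes trivial).map I.subschemeι.continuous

/-- The ideal of the divisor is the prime of its generic point. -/
lemma ideal_eq_primeAt (U : X.affineOpens) (hU : gen I ∈ U.1) : I.ideal U = primeAt U (gen I) hU := by
  refine le_antisymm ((mem_support_iff_le I U _ hU).1 gen_mem_support) ?_
  haveI : Nonempty ↑(I.subschemeι ⁻¹ᵁ U.1) := ⟨⟨genericPoint I.subscheme, hU⟩⟩
  haveI hp : (I.ideal U).IsPrime := by
    rw [← I.ker_subschemeι_app U]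
    exact RingHom.ker_isPrime _
  obtain ⟨y, hy, hyp⟩ := exists_point U (I.ideal U)
  rw [← hyp]
  exact (specializes_iff_primeAt_le U hy hU).1 (gen_specializes ((mem_support_iff_le I U y hy).2 hyp.ge))

lemma stalkIdeal_gen : stalkIdeal I (gen I) = maximalIdeal (X.presheaf.stalk (gen I)) := by
  obtain ⟨U, hU⟩ := exists_affine_mem (gen I)
  letI := stalkAlg U.1 (gen I) hU
  haveI := isLocalization_stalk U (gen I) hU
  rw [stalkIdeal_eq I U _ hU, ideal_eq_primeAt U hU]
  exact IsLocalization.AtPrime.map_eq_maximalIdeal (primeAt U (gen I) hU) _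

variable [IsIntegral X]

omit [IsIntegral I.subscheme] in
lemma generic_notMem_support (hI : BlowUp.IsEffCartierIdeal I) : genericPoint X ∉ I.support := by
  intro h
  obtain ⟨g, hg, hgI⟩ := exists_stalk_generator hI (genericPoint X)
  rw [mem_support_iff_stalkIdeal, maximalIdeal_generic, hgI, le_bot_iff, Ideal.span_singleton_eq_bot] at h
  exact nonZeroDivisors.ne_zero hg h

variable [IsLocallyNoetherian X] (hI : BlowUp.IsEffCartierIdeal I)
include hI

lemma coheight_gen (hX : Pi1.IsNormalScheme X) : Order.coheight (gen I) = 1 := by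
  obtain ⟨g, hg, hgI⟩ := exists_stalk_generator hI (gen I)
  rw [stalkIdeal_gen] at hgI
  have hnf : ¬ IsField (X.presheaf.stalk (gen I)) := fun hf => by
    have := (isField_iff_maximalIdeal_eq.1 hf).symm.trans hgI
    exact nonZeroDivisors.ne_zero hg (Ideal.span_singleton_eq_bot.1 this.symm)
  have hpr : (maximalIdeal (X.presheaf.stalk (gen I))).IsPrincipal := ⟨⟨g, hgI⟩⟩
  haveI := (hX (gen I)).1
  haveI : IsDiscreteValuationRing (X.presheaf.stalk (gen I)) :=
    ((IsDiscreteValuationRing.TFAE _ hnf).out 4 0).1 hpr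
  have h := ringKrullDim_stalk_eq_coheight (gen I)
  rw [IsDiscreteValuationRing.ringKrullDim_eq_one] at h
  exact_mod_cast h.symm

/-- A point of codimension one on the divisor is its generic point. -/
lemma eq_gen_of_mem {x : X} (hc : Order.coheight x = 1) (hx : x ∈ I.support) : x = gen I := by
  by_contra hne
  have h1 : x < gen I := lt_of_le_not_ge (gen_specializes hx : gen I ⤳ x)
    fun h => hne (Specializes.antisymm (h : x ⤳ gen I) (gen_specializes hx)).eq
  have h2 : gen I < genericPoint X := by
    refine lt_of_le_not_ge ((genericPoint_spec X).specializes trivial : genericPoint X ⤳ gen I) fun h => ?_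
    have he : gen I = genericPoint X :=
      (Specializes.antisymm (h : gen I ⤳ genericPoint X) ((genericPoint_spec X).specializes trivial)).eq
    exact generic_notMem_support hI (he ▸ gen_mem_support (I := I))
  have e1 := Order.coheight_add_one_le h1
  have e2 := Order.coheight_add_one_le h2
  rw [hc] at e1
  have : (2 : ℕ∞) ≤ 1 := le_trans (by
    calc (2 : ℕ∞) = 0 + 1 + 1 := by norm_num
      _ ≤ Order.coheight (genericPoint X) + 1 + 1 := by gcongr; exact bot_le
      _ ≤ Order.coheight (gen I) + 1 := by gcongr) e1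
  exact absurd this (by decide)

lemma irreducible_generator (hX : Pi1.IsNormalScheme X) {g : X.presheaf.stalk (gen I)}
    (hg : stalkIdeal I (gen I) = Ideal.span {g}) : Irreducible g := by
  haveI := isDVR hX (coheight_gen hI hX)
  exact (IsDiscreteValuationRing.irreducible_iff_uniformizer _).2 (stalkIdeal_gen.symm.trans hg)

/-- The powers of the dual ideal have a rational section with divisor the multiple of the divisor. -/
theorem exists_twist_section (hX : Pi1.IsNormalScheme X)
    (hreg : ∀ x : X, IsRegularLocalRing (X.presheaf.stalk x)) (hdim : topologicalKrullDim X ≤ 2) (k : ℕ) :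
    PicF.IsInvertible (CohB1.tensorPow (RefHull.dual (ClSub.idealMod I)) k) ∧
      ∃ θ : (CohB1.tensorPow (RefHull.dual (ClSub.idealMod I)) k).presheaf.stalk (genericPoint X), θ ≠ 0 ∧
        ∀ x : X, Order.coheight x = 1 →
          (x ∈ I.support → sord (CohB1.tensorPow (RefHull.dual (ClSub.idealMod I)) k) x θ = k) ∧
          (x ∉ I.support → sord (CohB1.tensorPow (RefHull.dual (ClSub.idealMod I)) k) x θ = 0) := by
  have hJ := (Curves2.isInvertible_idealMod_iff I).2 hI
  have hJr : RefHull.IsRef1 (ClSub.idealMod I) := isRef1_of_framed (Amp73.isCoh_of_isInvertible hJ)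
    (fun x => isReflexiveAt_of_framed (framed_of_isInvertible hJ x)) (framed_of_isInvertible hJ _)
  let ι := ClSub.idealModι I
  let one := germM (Coh.structureModule X) ⊤ (genericPoint X) trivial (toUnit (1 : Γ(X, ⊤)))
  -- the rational section `1` of the ideal
  have hchart : ∀ x : X, ∃ (U : X.affineOpens) (hx : x ∈ U.1) (e : Γ(ClSub.idealMod I, U.1)),
      Var76.LineBundle.IsFrame (ClSub.idealMod I) U.1 e ∧
      I.ideal U = Ideal.span {OmegaSh.idealSect I U.1 e} ∧
      (X.presheaf.germ U.1 (genericPoint X) (genericPoint_mem hx) (OmegaSh.idealSect I U.1 e) : X.functionField) ≠ 0 ∧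
      RefHull.stalkMapₗ ι (genericPoint X) (germM (ClSub.idealMod I) U.1 (genericPoint X) (genericPoint_mem hx) e) =
        (X.presheaf.germ U.1 (genericPoint X) (genericPoint_mem hx) (OmegaSh.idealSect I U.1 e)) • one := fun x => by
    obtain ⟨U, hx, f, hf, hfI⟩ := hI x
    obtain ⟨e, rfl⟩ := Curves2.exists_idealSect_of_mem I U (hfI.ge (Ideal.mem_span_singleton_self f))
    refine ⟨U, hx, e, Curves2.isFrame_of_span I U hf hfI e rfl, hfI,
      nonZeroDivisors.ne_zero (germ_mem_nonZeroDivisors U hf _ (genericPoint_mem hx)), ?_⟩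
    rw [RefHull.stalkMapₗ_germ]
    show germM (Coh.structureModule X) U.1 (genericPoint X) (genericPoint_mem hx) ((ι.app U.1) e) = _
    rw [show one = germM (Coh.structureModule X) U.1 (genericPoint X) (genericPoint_mem hx)
      (res (Coh.structureModule X) le_top (toUnit (1 : Γ(X, ⊤)))) from (germM_res (le_top : U.1 ≤ ⊤) (genericPoint_mem hx) (toUnit (1 : Γ(X, ⊤)))).symm, ← germM_smul]
    congr 1
    show OmegaSh.idealSect I U.1 e = OmegaSh.idealSect I U.1 e * X.presheaf.map (homOfLE le_top).op (1 : Γ(X, ⊤))
    rw [map_one]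
    exact (mul_one (OmegaSh.idealSect I U.1 e)).symm
  obtain ⟨U₀, hU₀, e₀, he₀, -, hne₀, hι₀⟩ := hchart (genericPoint X)
  let f₀ : X.functionField := X.presheaf.germ U₀.1 (genericPoint X) (genericPoint_mem hU₀) (OmegaSh.idealSect I U₀.1 e₀)
  let σ := (f₀⁻¹ : X.presheaf.stalk (genericPoint X)) •
    germM (ClSub.idealMod I) U₀.1 (genericPoint X) (genericPoint_mem hU₀) e₀
  have hσι : RefHull.stalkMapₗ ι (genericPoint X) σ = one := by
    rw [map_smul, hι₀, smul_smul]
    exact (congrArg (fun c : X.presheaf.stalk (genericPoint X) => c • one) (inv_mul_cancel₀ hne₀)).trans (one_smul _ _)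
  have hone : one ≠ 0 := germM_ne_zero isFrame_unit _
  have hσ : σ ≠ 0 := fun h => hone (hσι.symm.trans (by rw [h, map_zero]))
  have hord : ∀ x : X, Order.coheight x = 1 →
      (x ∈ I.support → sord (ClSub.idealMod I) x σ = -1) ∧ (x ∉ I.support → sord (ClSub.idealMod I) x σ = 0) := by
    intro x hc
    obtain ⟨U, hx, e, he, hfI, hne, hι⟩ := hchart x
    let f : X.functionField := X.presheaf.germ U.1 (genericPoint X) (genericPoint_mem hx) (OmegaSh.idealSect I U.1 e)
    have hs : σ = (f⁻¹ : X.presheaf.stalk (genericPoint X)) •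
        germM (ClSub.idealMod I) U.1 (genericPoint X) (genericPoint_mem hx) e := by
      obtain ⟨φ, hφ⟩ := eq_smul_frame he (genericPoint_mem hx) σ
      rw [hφ]
      congr 1
      have h := hσι
      rw [hφ, map_smul, hι, smul_smul] at h
      have h' : (φ * f : X.functionField) = 1 :=
        (isGen_germM isFrame_unit (Opens.mem_top (genericPoint X))).1 (h.trans (one_smul _ one).symm)
      exact eq_inv_of_mul_eq_one_left h'
    rw [hs, sord_frame he (genericPoint_mem hx) hx hc f⁻¹ (inv_ne_zero hne), ord_inv f hne]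
    haveI : Nonempty U.1 := ⟨⟨x, hx⟩⟩
    have hf : f = algebraMap (X.presheaf.stalk x) X.functionField (X.presheaf.germ U.1 x hx (OmegaSh.idealSect I U.1 e)) :=
      (Scheme.algebraMap_germ_eq_germToFunctionField X hx _).symm
    have hst := stalkIdeal_eq_span hfI x hx
    constructor
    · intro hxs
      obtain rfl := eq_gen_of_mem hI hc hxs
      haveI : Ring.KrullDimLE 1 (X.presheaf.stalk (gen I)) := krullDimLE_of_coheight_le hc.le
      haveI := isDVR hX hc
      rw [hf, (Scheme.ord_eq_iff hc (hf ▸ hne)).2 (Ring.ordFrac_irreducible (irreducible_generator hI hX hst))]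
    · intro hxs
      have hu : IsUnit (X.presheaf.germ U.1 x hx (OmegaSh.idealSect I U.1 e)) := by
        rw [← Ideal.span_singleton_eq_top, ← (notMem_support_iff_stalkIdeal I x).1 hxs]
        exact hst.symm
      rw [hf, ord_algebraMap_of_isUnit hc hu, neg_zero]
  obtain ⟨hD1, θ₁, hθ₁, hθ₁o⟩ := exists_dual_sord hX hJr hσ
  have hDi := isInvertible_of_isRef1 hX hreg hdim hD1
  induction k with
  | zero =>
    refine ⟨EGA73.isInvertible_structureModule, one, hone, fun x hc => ?_⟩
    have h : sord (Coh.structureModule X) x one = 0 := by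
      have e := sord_frame (isFrame_unit (X := X)) (Opens.mem_top (genericPoint X)) (Opens.mem_top x) hc
        (1 : X.functionField) one_ne_zero
      rw [show ((1 : X.functionField) : X.presheaf.stalk (genericPoint X)) • one = one from one_smul _ _] at e
      exact e.trans ((Scheme.ord_eq_iff hc one_ne_zero).2 ((map_one _).trans rfl))
    exact ⟨fun _ => h.trans Nat.cast_zero.symm, fun _ => h⟩
  | succ n ih =>
    obtain ⟨hi, θ, hθ, hθo⟩ := ih
    refine ⟨EGA73.isInvertible_tensorMod hi hDi, ?_⟩
    obtain ⟨w, hw, hwo⟩ := exists_tensor_sord _ _ (framed_of_isInvertible hi _) (framed_of_isInvertible hDi _) hθ hθ₁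
    refine ⟨w, hw, fun x hc => ?_⟩
    have e := (hwo x hc (framed_of_isInvertible hi x) (framed_of_isInvertible hDi x)).2
    rw [hθ₁o x hc] at e
    exact ⟨fun h => by rw [show sord (CohB1.tensorPow _ (n + 1)) x w = _ from e, (hθo x hc).1 h, (hord x hc).1 h]; push_cast; ring,
      fun h => by rw [show sord (CohB1.tensorPow _ (n + 1)) x w = _ from e, (hθo x hc).2 h, (hord x hc).2 h]; rfl⟩

end Groth.Agent.Div89.DetTwist
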