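import Groth.Agent.Div89.DetTwist.Lattice
import Groth.Agent.Div89.DetTwist.Alt
import Groth.Agent.Div89.Ref1.Ord
import Groth.Agent.Div89.Stalk
import Groth.Agent.Om3.ExtPowPull

/-! The determinant on the generic stalk of a top exterior power. -/

set_option autoImplicit false
set_option linter.style.haveILetI false
set_option backward.isDefEq.respectTransparency.types false

noncomputable section

universe u

open CategoryTheory AlgebraicGeometry TopologicalSpace Opposite Module
open Groth.Agent.QC70 Groth.Agent.Div89.Ref1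

namespace Groth.Agent.Div89.DetTwist

variable {X : Scheme.{u}} [IsIntegral X] {r : ℕ}

/-- Coordinates on the generic stalk. -/
abbrev Coord (F : X.Modules) (r : ℕ) :=
  F.presheaf.stalk (genericPoint X) ≃ₗ[X.presheaf.stalk (genericPoint X)] (Fin r → X.functionField)

lemma mem_generic (U : X.Opens) (h : (U : Set X).Nonempty) : genericPoint X ∈ U :=
  ((genericPoint_spec X).mem_open_set_iff U.2).2 (by simpa using h)

/-- Every element of the generic stalk is a fraction of a section. -/
lemma exists_fraction (F : X.Modules) (hF : Coh.IsQCoh F) (U : X.affineOpens) (hη : genericPoint X ∈ U.1)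
    (z : F.presheaf.stalk (genericPoint X)) :
    ∃ (t : Γ(X, U.1)) (m : Γ(F, U.1)), t ∉ primeAt U (genericPoint X) hη ∧
      X.presheaf.germ U.1 (genericPoint X) hη t • z = germM F U.1 (genericPoint X) hη m := by
  letI := stalkModule F U.1 (genericPoint X) hη
  haveI := isLocalizedModule_germLin F hF U (genericPoint X) hη
  obtain ⟨⟨m, t⟩, h⟩ := IsLocalizedModule.surj (primeAt U (genericPoint X) hη).primeCompl
    (germLin F U.1 (genericPoint X) hη) z
  exact ⟨t.1, m, t.2, h⟩

lemma germ_ne_zero (U : X.affineOpens) (hη : genericPoint X ∈ U.1) {t : Γ(X, U.1)}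
    (ht : t ∉ primeAt U (genericPoint X) hη) :
    (X.presheaf.germ U.1 (genericPoint X) hη t : X.functionField) ≠ 0 :=
  IsUnit.ne_zero ((germ_isUnit_iff U _ hη t).2 ht)

lemma smul_germ_injective (F : X.Modules) (U : X.affineOpens) (hη : genericPoint X ∈ U.1) {t : Γ(X, U.1)}
    (ht : t ∉ primeAt U (genericPoint X) hη) :
    Function.Injective fun z : F.presheaf.stalk (genericPoint X) => X.presheaf.germ U.1 (genericPoint X) hη t • z :=
  ((germ_isUnit_iff U _ hη t).2 ht).smul_bijective.1

variable (F L : X.Modules) (ν : Coord F r)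

/-- The determinant of a tuple of sections. -/
def detSec (U : X.Opens) (hη : genericPoint X ∈ U) (v : Fin r → Γ(F, U)) : X.functionField :=
  detV fun j => ν (germM F U (genericPoint X) hη (v j))

/-- The determinant as an alternating map over the sections. -/
lemma exists_detAlt (U : X.Opens) (hη : genericPoint X ∈ U) :
    letI := (X.presheaf.germ U (genericPoint X) hη).hom.toAlgebra
    ∃ g : AlternatingMap Γ(X, U) Γ(F, U) X.functionField (Fin r), ∀ v, g v = detSec F ν U hη v := by
  letI := (X.presheaf.germ U (genericPoint X) hη).hom.toAlgebra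
  letI := stalkModule F U (genericPoint X) hη
  let P : Γ(F, U) →ₗ[Γ(X, U)] (Fin r → X.functionField) :=
    { toFun := fun m => ν (germLin F U (genericPoint X) hη m)
      map_add' := fun a b => (congrArg ν (map_add (germLin F U (genericPoint X) hη) a b)).trans (map_add ν _ _)
      map_smul' := fun a m => by
        rw [map_smul, stalkModule_smul, map_smul]
        rfl }
  let f : MultilinearMap Γ(X, U) (fun _ : Fin r => Fin r → X.functionField) X.functionField :=
    (detV : AlternatingMap X.functionField (Fin r → X.functionField) X.functionField (Fin r)).toMultilinearMap.restrictScalars Γ(X, U)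
  have hf : ∀ (v : Fin r → Fin r → X.functionField) (i j : Fin r), v i = v j → i ≠ j → f v = 0 :=
    fun v _ _ h hne => (detV : AlternatingMap X.functionField (Fin r → X.functionField) X.functionField
      (Fin r)).map_eq_zero_of_eq v h hne
  let g : AlternatingMap Γ(X, U) (Fin r → X.functionField) X.functionField (Fin r) :=
    { f with map_eq_zero_of_eq' := hf }
  exact ⟨g.compLinearMap P, fun v => rfl⟩

variable {F L}

/-- On each affine open the top exterior power is the line spanned by one rational element. -/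
lemma exists_omega_chart (hF : Coh.IsQCoh F) (hL : Coh.IsQCoh L) (U : X.affineOpens) (hη : genericPoint X ∈ U.1)
    (ψ : ↥(⋀[Γ(X, U.1)]^r Γ(F, U.1)) ≃ₗ[Γ(X, U.1)] Γ(L, U.1)) :
    ∃ ω : L.presheaf.stalk (genericPoint X),
      Function.Bijective (fun c : X.functionField => (c : X.presheaf.stalk (genericPoint X)) • ω) ∧
      (∃ v, detSec F ν U.1 hη v ≠ 0) ∧
      ∀ v : Fin r → Γ(F, U.1),
        germM L U.1 (genericPoint X) hη (ψ (exteriorPower.ιMulti Γ(X, U.1) r v)) =
          (detSec F ν U.1 hη v : X.presheaf.stalk (genericPoint X)) • ω := by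
  classical
  let O := X.presheaf.stalk (genericPoint X)
  letI := (X.presheaf.germ U.1 (genericPoint X) hη).hom.toAlgebra
  letI := stalkModule L U.1 (genericPoint X) hη
  obtain ⟨gd, hgd⟩ := exists_detAlt F ν U.1 hη
  -- a tuple in general position
  choose t m ht htm using fun j : Fin r =>
    exists_fraction F hF U hη (ν.symm (Pi.single j (1 : X.functionField)))
  have hνm : ∀ j, ν (germM F U.1 (genericPoint X) hη (m j)) = (X.presheaf.germ U.1 (genericPoint X) hη (t j) : X.functionField) •
      (Pi.basisFun X.functionField (Fin r) j) := fun j => by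
    rw [← htm j, map_smul, LinearEquiv.apply_symm_apply, Pi.basisFun_apply]
  have hdm : detSec F ν U.1 hη m ≠ 0 := by
    unfold detSec
    rw [funext hνm]
    show detV (fun j => (X.presheaf.germ U.1 (genericPoint X) hη (t j) : X.functionField) • Pi.basisFun X.functionField (Fin r) j) ≠ 0
    rw [AlternatingMap.map_smul_univ, detV, Basis.det_self, smul_eq_mul, mul_one]
    exact Finset.prod_ne_zero_iff.2 fun j _ => germ_ne_zero U hη (ht j)
  let e₀ := germM L U.1 (genericPoint X) hη (ψ (exteriorPower.ιMulti Γ(X, U.1) r m))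
  obtain ⟨ω, hω⟩ : ∃ ω : L.presheaf.stalk (genericPoint X), (detSec F ν U.1 hη m : O) • ω = e₀ :=
    ((isUnit_iff_ne_zero.2 hdm : IsUnit (detSec F ν U.1 hη m)).smul_bijective).2 e₀
  let G₁ : AlternatingMap Γ(X, U.1) Γ(F, U.1) (L.presheaf.stalk (genericPoint X)) (Fin r) :=
    ((germLin L U.1 (genericPoint X) hη).comp ψ.toLinearMap).compAlternatingMap (exteriorPower.ιMulti Γ(X, U.1) r)
  let S : X.functionField →ₗ[Γ(X, U.1)] L.presheaf.stalk (genericPoint X) :=
    { toFun := fun c => (c : O) • ω
      map_add' := fun a b => add_smul _ _ _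
      map_smul' := fun a c => by
        rw [RingHom.id_apply, stalkModule_smul, smul_smul]
        rfl }
  let G₂ := S.compAlternatingMap gd
  have hgen : ∀ z : Γ(F, U.1), ∃ a : Γ(X, U.1), Function.Injective (fun n : L.presheaf.stalk (genericPoint X) => a • n) ∧
      a • z ∈ Submodule.span Γ(X, U.1) (Set.range m) := fun z => by
    letI := stalkModule F U.1 (genericPoint X) hη
    haveI := isLocalizedModule_germLin F hF U (genericPoint X) hη
    haveI := isLocalization_stalk U (genericPoint X) hη
    -- coordinates with denominators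
    choose p hp using fun j : Fin r =>
      IsLocalization.surj (primeAt U (genericPoint X) hη).primeCompl
        ((ν (germM F U.1 (genericPoint X) hη z) j * (X.presheaf.germ U.1 (genericPoint X) hη (t j) : X.functionField)⁻¹ : X.functionField) : O)
    let a₀ : Γ(X, U.1) := ∏ j, ((p j).2 : Γ(X, U.1))
    let c : Fin r → Γ(X, U.1) := fun j => (p j).1 * ∏ k ∈ Finset.univ.erase j, ((p k).2 : Γ(X, U.1))
    have ha₀ : a₀ ∉ primeAt U (genericPoint X) hη := fun h =>
      (Ideal.IsPrime.prod_mem_iff.1 h).elim fun j hj => (p j).2.2 hj.2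
    have heq : germLin F U.1 (genericPoint X) hη (a₀ • z) = germLin F U.1 (genericPoint X) hη (∑ j, c j • m j) := by
      refine ν.injective ?_
      rw [map_smul, map_sum]
      simp only [map_smul, stalkModule_smul, map_sum]
      funext k
      rw [show germLin F U.1 (genericPoint X) hη z = germM F U.1 (genericPoint X) hη z from rfl]
      rw [Finset.sum_apply, Finset.sum_eq_single k]
      · show (X.presheaf.germ U.1 (genericPoint X) hη a₀ : X.functionField) * ν (germM F U.1 (genericPoint X) hη z) k =
          (X.presheaf.germ U.1 (genericPoint X) hη (c k) : X.functionField) * (ν (germM F U.1 (genericPoint X) hη (m k))) k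
        rw [hνm, Pi.smul_apply, Pi.basisFun_apply, Pi.single_eq_same, smul_eq_mul, mul_one, map_mul]
        have h1 : ν (germM F U.1 (genericPoint X) hη z) k * (X.presheaf.germ U.1 (genericPoint X) hη (t k) : X.functionField)⁻¹ *
            X.presheaf.germ U.1 (genericPoint X) hη ((p k).2 : Γ(X, U.1)) = X.presheaf.germ U.1 (genericPoint X) hη (p k).1 := hp k
        rw [← h1, show a₀ = ((p k).2 : Γ(X, U.1)) * ∏ i ∈ Finset.univ.erase k, ((p i).2 : Γ(X, U.1)) from
          (Finset.mul_prod_erase Finset.univ (fun i => ((p i).2 : Γ(X, U.1))) (Finset.mem_univ k)).symm, map_mul]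
        have h2 := germ_ne_zero U hη (ht k)
        field_simp
      · intro j _ hj
        show (X.presheaf.germ U.1 (genericPoint X) hη (c j) : X.functionField) * (ν (germM F U.1 (genericPoint X) hη (m j))) k = 0
        rw [hνm, Pi.smul_apply, Pi.basisFun_apply, Pi.single_eq_of_ne (Ne.symm hj), smul_zero, mul_zero]
      · simp
    obtain ⟨⟨w, hw⟩, hwz⟩ := IsLocalizedModule.exists_of_eq (S := (primeAt U (genericPoint X) hη).primeCompl) heq
    refine ⟨w * a₀, ?_, ?_⟩
    · exact smul_germ_injective L U hη ((primeAt_isPrime U (genericPoint X) hη).mul_notMem hw ha₀)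
    · have hwz' : w • (a₀ • z) = w • ∑ j, c j • m j := hwz
      rw [mul_smul, hwz']
      exact Submodule.smul_mem _ _ (Submodule.sum_mem _ fun j _ =>
        Submodule.smul_mem _ _ (Submodule.subset_span ⟨j, rfl⟩))
  have h0 : G₁ m = G₂ m := by
    show germM L U.1 (genericPoint X) hη (ψ (exteriorPower.ιMulti Γ(X, U.1) r m)) = ((gd m : X.functionField) : O) • ω
    rw [hgd]
    exact hω.symm
  have hall : ∀ v : Fin r → Γ(F, U.1), germM L U.1 (genericPoint X) hη (ψ (exteriorPower.ιMulti Γ(X, U.1) r v)) =
      (detSec F ν U.1 hη v : O) • ω := fun v => by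
    have := congrArg (fun g : AlternatingMap Γ(X, U.1) Γ(F, U.1) (L.presheaf.stalk (genericPoint X)) (Fin r) => g v)
      (alternating_ext G₁ G₂ m h0 hgen)
    rw [← hgd v]
    exact this
  refine ⟨ω, ⟨?_, fun z => ?_⟩, ⟨m, hdm⟩, hall⟩
  · have hne : e₀ ≠ 0 := fun h => by
      obtain ⟨a, ha, hae⟩ := (germ_eq_zero_iff L hL U (genericPoint X) hη _).1 h
      rw [← map_smul, LinearEquiv.map_eq_zero_iff] at hae
      have := congrArg (exteriorPower.alternatingMapLinearEquiv gd) hae
      rw [map_smul, exteriorPower.alternatingMapLinearEquiv_apply_ιMulti, map_zero, hgd,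
        Algebra.smul_def] at this
      exact mul_ne_zero (germ_ne_zero U hη ha) hdm this
    have hω0 : ω ≠ 0 := fun h => hne (by rw [← hω, h, smul_zero])
    intro c c' h
    by_contra hcc
    have hsub : ((c - c' : X.functionField) : O) • ω = 0 := by
      show ((c : O) - c') • ω = 0
      rw [sub_smul]
      exact sub_eq_zero.2 h
    exact hω0 (((isUnit_iff_ne_zero.2 (sub_ne_zero.2 hcc) : IsUnit (c - c' : X.functionField))).smul_left_cancel.1
      (hsub.trans (smul_zero _).symm))
  · obtain ⟨a, y, ha, hay⟩ := exists_fraction L hL U hη z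
    have hy : y ∈ (Submodule.span Γ(X, U.1) (Set.range (exteriorPower.ιMulti Γ(X, U.1) r (M := Γ(F, U.1))))).map
        ψ.toLinearMap := by
      rw [exteriorPower.ιMulti_span, Submodule.map_top, LinearEquiv.range]
      trivial
    rw [Submodule.map_span] at hy
    have hgy : ∃ c : X.functionField, germLin L U.1 (genericPoint X) hη y = S c := by
      clear hay
      induction hy using Submodule.span_induction with
      | mem y hy =>
        obtain ⟨_, ⟨v, rfl⟩, rfl⟩ := hy
        exact ⟨_, hall v⟩
      | zero => exact ⟨0, by rw [map_zero, map_zero]⟩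
      | add y₁ y₂ _ _ h₁ h₂ =>
        obtain ⟨c₁, e₁⟩ := h₁
        obtain ⟨c₂, e₂⟩ := h₂
        exact ⟨c₁ + c₂, by rw [map_add, map_add, e₁, e₂]⟩
      | smul b y _ h =>
        obtain ⟨c, e⟩ := h
        exact ⟨b • c, by rw [map_smul, map_smul, e]⟩
    obtain ⟨c, hc⟩ := hgy
    refine ⟨(X.presheaf.germ U.1 (genericPoint X) hη a : X.functionField)⁻¹ * c, smul_germ_injective L U hη ha ?_⟩
    show X.presheaf.germ U.1 (genericPoint X) hη a •
        ((((X.presheaf.germ U.1 (genericPoint X) hη a : X.functionField)⁻¹ * c : X.functionField) : O) • ω) = _ • z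
    rw [smul_smul, hay]
    refine Eq.trans ?_ hc.symm
    exact congrArg (fun k : X.functionField => (k : O) • ω) (mul_inv_cancel_left₀ (germ_ne_zero U hη ha) c)

/-- The determinant identifies the generic stalk of a top exterior power with the function field. -/
theorem exists_delta (hF : Coh.IsQCoh F) (hL : ExtPow.IsExtPow r F L) :
    ∃ (Δ : L.presheaf.stalk (genericPoint X) ≃ₗ[X.presheaf.stalk (genericPoint X)] X.functionField)
      (ψ : ∀ W : X.affineOpens, ↥(⋀[Γ(X, W.1)]^r Γ(F, W.1)) ≃ₗ[Γ(X, W.1)] Γ(L, W.1)),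
      ∀ (U : X.affineOpens) (hη : genericPoint X ∈ U.1) (v : Fin r → Γ(F, U.1)),
        Δ (germM L U.1 (genericPoint X) hη (ψ U (exteriorPower.ιMulti Γ(X, U.1) r v))) = detSec F ν U.1 hη v := by
  haveI : F.IsQuasicoherent := hF
  have hLq : Coh.IsQCoh L := Om3.isQuasicoherent_of_isExtPow hL
  obtain ⟨ψ, hψ⟩ := Om3.exists_psi hL
  choose ω hω hv hform using fun (U : X.affineOpens) (hη : genericPoint X ∈ U.1) =>
    exists_omega_chart ν hF hLq U hη (ψ U)
  have key : ∀ (U V : X.affineOpens) (hU : genericPoint X ∈ U.1) (hV : genericPoint X ∈ V.1), V.1 ≤ U.1 →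
      ω V hV = ω U hU := fun U V hU hV h => by
    obtain ⟨v, hne⟩ := hv U hU
    have h1 := hform U hU v
    rw [← germM_res h hV, hψ U V h, Om3.resExt_ιMulti, hform V hV] at h1
    have h2 : detSec F ν V.1 hV (fun i => res F h (v i)) = detSec F ν U.1 hU v := by
      simp only [detSec, germM_res]
    rw [h2] at h1
    exact (isUnit_iff_ne_zero.2 hne : IsUnit (detSec F ν U.1 hU v)).smul_left_cancel.1 h1
  obtain ⟨U₀, hU₀⟩ := exists_affine_mem (genericPoint X)
  let e := LinearEquiv.ofBijective
    ({ toFun := fun c => (c : X.presheaf.stalk (genericPoint X)) • ω U₀ hU₀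
       map_add' := fun a b => add_smul _ _ _
       map_smul' := fun a c => mul_smul _ _ _ } :
      X.functionField →ₗ[X.presheaf.stalk (genericPoint X)] L.presheaf.stalk (genericPoint X)) (hω U₀ hU₀)
  refine ⟨e.symm, ψ, fun U hη v => e.injective ?_⟩
  rw [LinearEquiv.apply_symm_apply, hform U hη v]
  obtain ⟨V, hV, hηV, hle⟩ := exists_isAffineOpen_mem_and_subset (show genericPoint X ∈ U.1 ⊓ U₀.1 from ⟨hη, hU₀⟩)
  rw [← key U ⟨V, hV⟩ hη hηV (fun y hy => (hle hy).1), key U₀ ⟨V, hV⟩ hU₀ hηV (fun y hy => (hle hy).2)]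
  rfl

end Groth.Agent.Div89.DetTwist
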