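import Groth.Agent.Div89.Ref1.Class
import Groth.Agent.Div89.Reflexive

/-! Rank one reflexive modules on regular surfaces are invertible. -/

set_option autoImplicit false
set_option linter.style.haveILetI false
set_option backward.isDefEq.respectTransparency.types false

noncomputable section

universe u

open CategoryTheory AlgebraicGeometry TopologicalSpace Module
open Groth.Agent.QC70 Groth.Agent.Props58.LocFree Groth.Agent.Div89.Ref1

namespace Groth.Agent.Div89.DetTwist

variable {X : Scheme.{u}} [IsIntegral X] [IsLocallyNoetherian X]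

/-- Vectors in a line are proportional with denominators. -/
lemma exists_relation {F : X.Modules} (hF : Framed F (genericPoint X)) {x : X}
    (hi : Function.Injective (toη F x)) (a b : F.presheaf.stalk x) (hb : b ≠ 0) :
    ∃ p q : X.presheaf.stalk x, q ≠ 0 ∧ q • a = p • b := by
  have hb' : toη F x b ≠ 0 := fun h => hb (hi (h.trans (map_zero _).symm))
  obtain ⟨c, hc⟩ := (smul_bijective_of_ne_zero hF hb').2 (toη F x a)
  obtain ⟨p, q, hq, hpq⟩ := IsFractionRing.div_surjective (X.presheaf.stalk x) (c : X.functionField)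
  refine ⟨p, q, nonZeroDivisors.ne_zero hq, hi ?_⟩
  rw [toη_smul, toη_smul, ← hc, smul_smul]
  congr 1
  show (algebraMap (X.presheaf.stalk x) X.functionField q * (c : X.functionField) : X.functionField) = _
  rw [← hpq, mul_div_cancel₀]
  exact IsFractionRing.to_map_ne_zero_of_mem_nonZeroDivisors hq

theorem isInvertible_of_isRef1 (hX : Pi1.IsNormalScheme X) (hreg : ∀ x : X, IsRegularLocalRing (X.presheaf.stalk x))
    (hdim : topologicalKrullDim X ≤ 2) {F : X.Modules} (hF : RefHull.IsRef1 F) : PicF.IsInvertible F := by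
  refine Mero90.isInvertible_of_frames fun x => ?_
  suffices h : Framed F x by
    obtain ⟨U, hx, e, he⟩ := h
    exact ⟨U, hx, e, he⟩
  have hfree : FlatMod.IsFinLocFree F :=
    (isFinLocFree_iff_reflexive_of_dim_le_two hreg hdim hF.1).1 (stalks_reflexive hF)
  haveI := free_stalk_of_isFinLocFree hfree x
  have htf : ∀ y : X, Module.IsTorsionFree (X.presheaf.stalk y) (F.presheaf.stalk y) :=
    torsionFree_of_reflexive F (stalks_reflexive hF)
  have hi := toη_injective F hF.1.1 htf x
  have hFη : Framed F (genericPoint X) := framed_of_isRef1 hX hF (Or.inl rfl)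
  obtain ⟨s, hs⟩ := exists_ne_zero hX hF
  let B := Module.Free.chooseBasis (X.presheaf.stalk x) (F.presheaf.stalk x)
  -- the basis has exactly one element
  haveI : Nonempty (Module.Free.ChooseBasisIndex (X.presheaf.stalk x) (F.presheaf.stalk x)) := by
    by_contra h
    rw [not_nonempty_iff] at h
    haveI : Subsingleton (F.presheaf.stalk x) := B.repr.toEquiv.subsingleton
    haveI : F.IsFiniteType := hF.1.2
    haveI : F.IsQuasicoherent := hF.1.1
    obtain ⟨U, hxU, hU⟩ := QC70.exists_nhd_sections_subsingleton (M := F) x inferInstance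
    obtain ⟨W, hηW, m, rfl⟩ := germM_exist s
    have hη : genericPoint X ∈ W ⊓ U := ⟨hηW, ((genericPoint_spec X).specializes trivial).mem_open U.2 hxU⟩
    haveI := hU (W ⊓ U) inf_le_right
    apply hs
    rw [← germM_res (inf_le_left : W ⊓ U ≤ W) hη m, Subsingleton.elim (res F inf_le_left m) 0, germM_zero]
  haveI : Subsingleton (Module.Free.ChooseBasisIndex (X.presheaf.stalk x) (F.presheaf.stalk x)) := ⟨fun i j => by
    by_contra hij
    obtain ⟨p, q, hq, hpq⟩ := exists_relation hFη hi (B i) (B j) (B.ne_zero j)
    have := congrArg (fun z => B.repr z i) hpq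
    simp [Finsupp.single_apply, Ne.symm hij, hq] at this⟩
  obtain ⟨i⟩ := ‹Nonempty (Module.Free.ChooseBasisIndex (X.presheaf.stalk x) (F.presheaf.stalk x))›
  refine framed_of_isGen hF.1 (B i) ⟨fun a b hab => ?_, fun z => ⟨B.repr z i, ?_⟩⟩
  · simpa using congrArg (fun z => B.repr z i) hab
  · haveI : Fintype (Module.Free.ChooseBasisIndex (X.presheaf.stalk x) (F.presheaf.stalk x)) := Fintype.ofSubsingleton i
    exact (Fintype.sum_subsingleton (fun k => B.repr z k • B k) i).symm.trans (B.sum_repr z)

end Groth.Agent.Div89.DetTwist
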