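import Groth.Agent.Div89.DetTwist.Lat
import Groth.Agent.Div89.DetTwist.Inv

/-! The divisor of the determinant on the reflexive hull of a top exterior power. -/

set_option autoImplicit false
set_option linter.style.haveILetI false
set_option backward.isDefEq.respectTransparency.types false

noncomputable section

universe u

open CategoryTheory AlgebraicGeometry TopologicalSpace Opposite Module
open Groth.Agent.QC70 Groth.Agent.Props58.LocFree Groth.Agent.Div89.Ref1

namespace Groth.Agent.Div89.DetTwist

variable {X : Scheme.{u}} {r : ℕ} {F L : X.Modules}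

lemma isCoh_extPow (hF : Coh.IsCoh F) (hL : ExtPow.IsExtPow r F L) : Coh.IsCoh L := by
  haveI : F.IsQuasicoherent := hF.1
  haveI : F.IsFiniteType := hF.2
  haveI := Om3.isQuasicoherent_of_isExtPow hL
  obtain ⟨ψ, -⟩ := Om3.exists_psi hL
  refine ⟨inferInstance, isFiniteType_of_finite_sections _ (fun W : X.affineOpens => W.1)
    (iSup_affineOpens_eq_top X) (fun W => W.2) fun W => ?_⟩
  haveI := finite_sections_of_isFiniteType F W.2
  exact Module.Finite.equiv (ψ W)

variable [IsIntegral X] [IsLocallyNoetherian X] (ν : Coord F r)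

/-- The reflexive hull of the top exterior power, with the divisor of the standard volume form. -/
theorem exists_hull_section (hX : Pi1.IsNormalScheme X) (hF : Coh.IsCoh F) (hL : ExtPow.IsExtPow r F L) :
    RefHull.IsRef1 (RefHull.ddual L) ∧
      ∃ ω : (RefHull.ddual L).presheaf.stalk (genericPoint X), ω ≠ 0 ∧
        ∀ (x : X), Order.coheight x = 1 → ∀ d : X.functionField,
          IsDetGen (LinearMap.range (tau ν x)) d → sord (RefHull.ddual L) x ω = - Scheme.ord d x := by
  have hLc := isCoh_extPow hF hL
  obtain ⟨Δ, ψ, hΔ⟩ := exists_delta ν hF.1 hL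
  let ε : L.presheaf.stalk (genericPoint X) := Δ.symm (1 : X.functionField)
  have hε : Function.Bijective fun c : X.presheaf.stalk (genericPoint X) => c • ε := by
    have : (fun c : X.presheaf.stalk (genericPoint X) => c • ε) = Δ.symm ∘ fun c => (c : X.functionField) := by
      funext c
      show c • Δ.symm (1 : X.functionField) = Δ.symm (c : X.functionField)
      rw [← map_smul]
      exact congrArg Δ.symm (mul_one (c : X.functionField))
    rw [this]
    exact Δ.symm.bijective.comp Function.bijective_id
  have hLη : Framed L (genericPoint X) := framed_of_isGen hLc ε hε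
  have hbη := bijective_stalk_bidual L hLc (genericPoint X) (isReflexiveAt_of_framed hLη)
  have hdc : Coh.IsCoh (RefHull.ddual L) := isCoh_dual _ (isCoh_dual _ hLc)
  have hdr : RefHull.IsRef1 (RefHull.ddual L) := isRef1_of_framed hdc
    (fun x => isReflexiveAt_ddual L hLc x) (framed_of_bijective hdc (RefHull.bidualMap L) hLη hbη)
  let B := RefHull.stalkMapₗ (RefHull.bidualMap L) (genericPoint X)
  have hεne : ε ≠ 0 := by
    intro h
    exact one_ne_zero (α := X.presheaf.stalk (genericPoint X)) (hε.1 (a₁ := 1) (a₂ := 0) (by simp [h]))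
  have hω : B ε ≠ 0 := fun h => hεne (hbη.1 (h.trans (map_zero _).symm))
  refine ⟨hdr, B ε, hω, fun x hc d hd => ?_⟩
  have hx : Framed (RefHull.ddual L) x := framed_of_isRef1 hX hdr (Or.inr hc)
  have htf := torsionFree_of_reflexive (RefHull.ddual L) (stalks_reflexive hdr)
  have hinj := toη_injective (RefHull.ddual L) hdc.1 htf x
  obtain ⟨v, hv, hvd⟩ := hd.2.1
  obtain ⟨l, hl⟩ := exists_delta_eq Δ ψ hΔ hF.1 x v hv
  rw [hvd] at hl
  have hΔε : ∀ z : L.presheaf.stalk (genericPoint X), B z = (Δ z : X.presheaf.stalk (genericPoint X)) • B ε := by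
    intro z
    rw [← map_smul]
    congr 1
    refine Δ.injective ?_
    rw [map_smul, LinearEquiv.apply_symm_apply]
    exact (mul_one (Δ z)).symm
  let t := RefHull.stalkMapₗ (RefHull.bidualMap L) x l
  have ht : toη (RefHull.ddual L) x t = (d : X.presheaf.stalk (genericPoint X)) • B ε := by
    rw [← stalkMapₗ_toη, hΔε, hl]
  have hd0 : d ≠ 0 := hd.1
  have ht0 : toη (RefHull.ddual L) x t ≠ 0 := by
    rw [ht]
    intro h
    exact hω ((isUnit_iff_ne_zero.2 hd0 : IsUnit d).smul_left_cancel.1 (h.trans (smul_zero _).symm))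
  have hspan : Submodule.span (X.presheaf.stalk x) {t} = ⊤ := by
    refine eq_top_iff.2 fun z _ => ?_
    obtain ⟨l', rfl⟩ := surjective_stalk_bidual hX L hLc hc z
    obtain ⟨c, hc'⟩ := delta_mem Δ ψ hΔ hF.1 hLc.1 x hd l'
    refine Submodule.mem_span_singleton.2 ⟨c, hinj ?_⟩
    rw [toη_smul, ht, ← stalkMapₗ_toη, hΔε (toη L x l'), hc', smul_smul, Algebra.smul_def]
  have h := sord_eq (RefHull.ddual L) hc t hspan ht0 (d⁻¹) (inv_ne_zero hd0)
  rw [ht, smul_smul] at h
  rw [← ord_inv d hd0 x, ← h]
  congr 1
  exact (one_smul _ _).symm.trans (congrArg (fun k : X.presheaf.stalk (genericPoint X) => k • B ε)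
    (inv_mul_cancel₀ hd0 : d⁻¹ * d = 1).symm)

end Groth.Agent.Div89.DetTwist
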