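import Groth.Agent.Div89.DetTwist.Delta
import Groth.Agent.Props58.LocFree.Criteria

/-! The lattice of a stalk in the generic stalk, and its determinant. -/

set_option autoImplicit false
set_option linter.style.haveILetI false
set_option backward.isDefEq.respectTransparency.types false

noncomputable section

universe u

open CategoryTheory AlgebraicGeometry TopologicalSpace Opposite Module
open Groth.Agent.QC70 Groth.Agent.Div89.Ref1

namespace Groth.Agent.Div89.DetTwist

variable {X : Scheme.{u}} [IsIntegral X] {r : ℕ} {F L : X.Modules} (ν : Coord F r)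

/-- The coordinates of a stalk. -/
def tau (x : X) : F.presheaf.stalk x →ₗ[X.presheaf.stalk x] (Fin r → X.functionField) where
  toFun z := ν (toη F x z)
  map_add' a b := (congrArg ν (map_add (toη F x) a b)).trans (map_add ν _ _)
  map_smul' a z := by
    rw [toη_smul, map_smul, RingHom.id_apply]
    exact algebraMap_smul X.functionField a _

lemma tau_germ (x : X) {U : X.Opens} (hx : x ∈ U) (m : Γ(F, U)) :
    tau ν x (germM F U x hx m) =
      ν (germM F U (genericPoint X) (((genericPoint_spec X).specializes trivial).mem_open U.2 hx) m) :=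
  congrArg ν (toη_germ F x hx m)

lemma span_range_tau (hF : Coh.IsQCoh F) (x : X) :
    Submodule.span X.functionField ((LinearMap.range (tau ν x) : Submodule (X.presheaf.stalk x) _) : Set (Fin r → X.functionField)) = ⊤ := by
  obtain ⟨U, hx⟩ := exists_affine_mem x
  refine eq_top_iff.2 fun w _ => ?_
  have hη : genericPoint X ∈ U.1 := ((genericPoint_spec X).specializes trivial).mem_open U.1.2 hx
  obtain ⟨t, m, ht, htm⟩ := exists_fraction F hF U hη (ν.symm w)
  have h : (X.presheaf.germ U.1 (genericPoint X) hη t : X.functionField) • w = tau ν x (germM F U.1 x hx m) := by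
    rw [tau_germ, ← htm, map_smul, LinearEquiv.apply_symm_apply]
  rw [← inv_smul_smul₀ (germ_ne_zero U hη ht) w, h]
  exact Submodule.smul_mem _ _ (Submodule.subset_span ⟨_, rfl⟩)

lemma fg_range_tau [F.IsFiniteType] (x : X) : (LinearMap.range (tau ν x)).FG := by
  haveI := Props58.LocFree.finite_stalk_of_isFiniteType (M := F) x
  rw [LinearMap.range_eq_map]
  exact Module.Finite.fg_top.map _

/-- Every stalk element is a unit multiple of a germ. -/
lemma exists_unit_smul_germ (G : X.Modules) (hG : Coh.IsQCoh G) (U : X.affineOpens) {x : X} (hx : x ∈ U.1)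
    (z : G.presheaf.stalk x) :
    ∃ (c : X.presheaf.stalk x) (m : Γ(G, U.1)), z = c • germM G U.1 x hx m := by
  letI := stalkModule G U.1 x hx
  haveI := isLocalizedModule_germLin G hG U x hx
  obtain ⟨⟨m, t⟩, h⟩ := IsLocalizedModule.surj (primeAt U x hx).primeCompl (germLin G U.1 x hx) z
  obtain ⟨c, hc⟩ := ((germ_isUnit_iff U x hx t.1).2 t.2).exists_left_inv
  refine ⟨c, m, ?_⟩
  have h' : X.presheaf.germ U.1 x hx t.1 • z = germM G U.1 x hx m := h
  rw [← h', smul_smul, hc, one_smul]

variable {ν}

section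

variable (Δ : L.presheaf.stalk (genericPoint X) ≃ₗ[X.presheaf.stalk (genericPoint X)] X.functionField)
  (ψ : ∀ W : X.affineOpens, ↥(⋀[Γ(X, W.1)]^r Γ(F, W.1)) ≃ₗ[Γ(X, W.1)] Γ(L, W.1))
  (hΔ : ∀ (U : X.affineOpens) (hη : genericPoint X ∈ U.1) (v : Fin r → Γ(F, U.1)),
    Δ (germM L U.1 (genericPoint X) hη (ψ U (exteriorPower.ιMulti Γ(X, U.1) r v))) = detSec F ν U.1 hη v)

lemma delta_smul (x : X) (c : X.presheaf.stalk x) (l : L.presheaf.stalk x) :
    Δ (toη L x (c • l)) = c • Δ (toη L x l) := by
  rw [toη_smul, map_smul]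
  exact algebraMap_smul X.functionField c _

include hΔ

lemma delta_germ (U : X.affineOpens) {x : X} (hx : x ∈ U.1) (v : Fin r → Γ(F, U.1)) :
    Δ (toη L x (germM L U.1 x hx (ψ U (exteriorPower.ιMulti Γ(X, U.1) r v)))) =
      detV fun j => tau ν x (germM F U.1 x hx (v j)) := by
  rw [toη_germ, hΔ]
  simp only [detSec, tau_germ]

/-- Determinants of stalk elements come from the exterior power. -/
theorem exists_delta_eq (hF : Coh.IsQCoh F) (x : X) (v : Fin r → Fin r → X.functionField)
    (hv : ∀ j, v j ∈ LinearMap.range (tau ν x)) : ∃ l : L.presheaf.stalk x, Δ (toη L x l) = detV v := by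
  obtain ⟨U, hx⟩ := exists_affine_mem x
  choose z hz using hv
  choose c m hm using fun j => exists_unit_smul_germ F hF U hx (z j)
  refine ⟨(∏ j, c j) • germM L U.1 x hx (ψ U (exteriorPower.ιMulti Γ(X, U.1) r m)), ?_⟩
  rw [delta_smul, delta_germ Δ ψ hΔ]
  have : v = fun j => (algebraMap (X.presheaf.stalk x) X.functionField (c j)) • tau ν x (germM F U.1 x hx (m j)) :=
    funext fun j => by rw [← hz j, hm j, map_smul]; exact (algebraMap_smul X.functionField (c j) _).symm
  rw [this, AlternatingMap.map_smul_univ, ← map_prod]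
  exact (algebraMap_smul X.functionField (∏ j, c j) _).symm

/-- The exterior power maps into the module of determinants. -/
theorem delta_mem (hF : Coh.IsQCoh F) (hL : Coh.IsQCoh L) (x : X) {d : X.functionField}
    (hd : IsDetGen (LinearMap.range (tau ν x)) d) (l : L.presheaf.stalk x) :
    ∃ c : X.presheaf.stalk x, Δ (toη L x l) = c • d := by
  obtain ⟨U, hx⟩ := exists_affine_mem x
  obtain ⟨c, y, rfl⟩ := exists_unit_smul_germ L hL U hx l
  have hy : y ∈ (Submodule.span Γ(X, U.1) (Set.range (exteriorPower.ιMulti Γ(X, U.1) r (M := Γ(F, U.1))))).map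
      (ψ U).toLinearMap := by
    rw [exteriorPower.ιMulti_span, Submodule.map_top, LinearEquiv.range]
    trivial
  rw [Submodule.map_span] at hy
  have key : ∃ k : X.presheaf.stalk x, Δ (toη L x (germM L U.1 x hx y)) = k • d := by
    induction hy using Submodule.span_induction with
    | mem y hy =>
      obtain ⟨_, ⟨v, rfl⟩, rfl⟩ := hy
      obtain ⟨k, hk⟩ := hd.2.2 _ fun j => ⟨germM F U.1 x hx (v j), rfl⟩
      exact ⟨k, (delta_germ Δ ψ hΔ U hx v).trans hk⟩
    | zero => exact ⟨0, by rw [germM_zero, map_zero, map_zero, zero_smul]⟩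
    | add y₁ y₂ _ _ h₁ h₂ =>
      obtain ⟨k₁, e₁⟩ := h₁
      obtain ⟨k₂, e₂⟩ := h₂
      exact ⟨k₁ + k₂, by rw [germM_add, map_add, map_add, e₁, e₂, add_smul]⟩
    | smul b y _ h =>
      obtain ⟨k, e⟩ := h
      exact ⟨X.presheaf.germ U.1 x hx b * k, by rw [germM_smul, delta_smul, e, smul_smul]⟩
  obtain ⟨k, hk⟩ := key
  exact ⟨c * k, by rw [delta_smul, hk, smul_smul]⟩

end

end Groth.Agent.Div89.DetTwist
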