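import Mathlib

/-! Determinants of lattices over a discrete valuation ring. -/

set_option autoImplicit false
set_option linter.style.haveILetI false

noncomputable section

universe u

open Module IsLocalRing

namespace Groth.Agent.Div89.DetTwist

variable {R K : Type u} [CommRing R] [Field K] [Algebra R K] {r : ℕ}

/-- The determinant of a tuple of vectors. -/
def detV : AlternatingMap K (Fin r → K) K (Fin r) := (Pi.basisFun K (Fin r)).det

/-- `d` generates the module of determinants of tuples in `N`. -/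
def IsDetGen (N : Submodule R (Fin r → K)) (d : K) : Prop :=
  d ≠ 0 ∧ (∃ v : Fin r → Fin r → K, (∀ i, v i ∈ N) ∧ detV v = d) ∧
    ∀ v : Fin r → Fin r → K, (∀ i, v i ∈ N) → ∃ c : R, detV v = c • d

lemma isDetGen_unique [IsDomain R] [IsFractionRing R K] {N : Submodule R (Fin r → K)} {d d' : K}
    (h : IsDetGen N d) (h' : IsDetGen N d') : ∃ c : Rˣ, d = (c : R) • d' := by
  obtain ⟨v, hv, rfl⟩ := h.2.1
  obtain ⟨v', hv', rfl⟩ := h'.2.1
  obtain ⟨c, hc⟩ := h'.2.2 v hv
  obtain ⟨c', hc'⟩ := h.2.2 v' hv'
  have h1 : algebraMap R K (c * c') = 1 := by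
    have : detV v = algebraMap R K (c * c') * detV v := by
      conv_lhs => rw [hc, hc']
      simp [Algebra.smul_def, mul_assoc]
    exact mul_right_cancel₀ h.1 (by rw [← this, one_mul])
  exact ⟨Units.mkOfMulEqOne c c' ((FaithfulSMul.algebraMap_injective R K) (h1.trans (map_one _).symm)), hc⟩

/-- A basis of `N` gives a generator of determinants. -/
lemma isDetGen_of_basis [IsDomain R] [IsFractionRing R K] (N : Submodule R (Fin r → K))
    (u : Basis (Fin r) R N) : IsDetGen N (detV fun i => (u i : Fin r → K)) := by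
  have hli : LinearIndependent K (fun i => (u i : Fin r → K)) :=
    (LinearIndependent.iff_fractionRing R K).1
      (u.linearIndependent.map' N.subtype (Submodule.ker_subtype N))
  refine ⟨?_, ⟨_, fun i => (u i).2, rfl⟩, fun v hv => ?_⟩
  · exact ((Pi.basisFun K (Fin r)).is_basis_iff_det).1
      ⟨hli, hli.span_eq_top_of_card_eq_finrank' (by simp)⟩ |>.ne_zero
  · let uK : Basis (Fin r) K (Fin r → K) := Basis.mk hli
      (hli.span_eq_top_of_card_eq_finrank' (by simp)).ge
    have hrepr : ∀ i j, uK.repr (v i) j = algebraMap R K (u.repr ⟨v i, hv i⟩ j) := fun i j => by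
      have hi : v i = ∑ k, algebraMap R K (u.repr ⟨v i, hv i⟩ k) • uK k := by
        have h := congrArg Subtype.val (u.sum_repr ⟨v i, hv i⟩)
        rw [Submodule.coe_sum] at h
        simpa [uK, algebraMap_smul] using h.symm
      conv_lhs => rw [hi]
      exact congrFun (uK.repr_sum_self _) j
    refine ⟨(Matrix.of fun j i => u.repr ⟨v i, hv i⟩ j).det, ?_⟩
    have h := congrArg (fun f : AlternatingMap K (Fin r → K) K (Fin r) => f v)
      ((detV : AlternatingMap K (Fin r → K) K (Fin r)).eq_smul_basis_det uK)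
    simp only [AlternatingMap.smul_apply, Basis.det_apply] at h
    rw [h, smul_eq_mul, mul_comm, Algebra.smul_def, RingHom.map_det]
    congr 1
    · congr 1
      ext i j
      simp [Basis.toMatrix_apply, hrepr]
    · simp [uK, Basis.coe_mk]

/-- Lattices have bases with `r` elements. -/
lemma exists_basis [IsDomain R] [IsPrincipalIdealRing R] [IsFractionRing R K] (N : Submodule R (Fin r → K))
    (hfg : N.FG) (hN : Submodule.span K (N : Set (Fin r → K)) = ⊤) : Nonempty (Basis (Fin r) R N) := by
  haveI : Module.Finite R N := Module.Finite.iff_fg.2 hfg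
  haveI : Module.IsTorsionFree R (Fin r → K) := inferInstance
  haveI : Module.Free R N := Module.free_of_finite_type_torsion_free'
  let u := Module.finBasis R N
  have hli : LinearIndependent K (fun i => (u i : Fin r → K)) :=
    (LinearIndependent.iff_fractionRing R K).1
      (u.linearIndependent.map' N.subtype (Submodule.ker_subtype N))
  have hsp : ⊤ ≤ Submodule.span K (Set.range fun i => (u i : Fin r → K)) := by
    rw [← hN, Submodule.span_le]
    intro z hz
    rw [SetLike.mem_coe, show z = ((⟨z, hz⟩ : N) : Fin r → K) from rfl, ← u.sum_repr ⟨z, hz⟩,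
      Submodule.coe_sum]
    refine Submodule.sum_mem _ fun i _ => ?_
    rw [Submodule.coe_smul, ← algebraMap_smul K (u.repr ⟨z, hz⟩ i)]
    exact Submodule.smul_mem _ _ (Submodule.subset_span ⟨i, rfl⟩)
  have hcard := Module.finrank_eq_card_basis (Basis.mk hli hsp)
  simp only [Module.finrank_fintype_fun_eq_card, Fintype.card_fin] at hcard
  exact ⟨u.reindex (finCongr hcard.symm)⟩

lemma exists_isDetGen [IsDomain R] [IsPrincipalIdealRing R] [IsFractionRing R K] (N : Submodule R (Fin r → K))
    (hfg : N.FG) (hN : Submodule.span K (N : Set (Fin r → K)) = ⊤) : ∃ d, IsDetGen N d :=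
  ⟨_, isDetGen_of_basis N (exists_basis N hfg hN).some⟩

/-- An elementary modification of a lattice. -/
theorem exists_detGen_modification [IsDomain R] [IsDiscreteValuationRing R] [IsFractionRing R K]
    (N N' : Submodule R (Fin r → K)) (hfg : N.FG) (hfg' : N'.FG)
    (hN : Submodule.span K (N : Set (Fin r → K)) = ⊤) (hle : N ≤ N') (π : R) (hπ : Irreducible π)
    (hk : ∀ z ∈ N', π • z ∈ N) {s : ℕ} (g : Fin s → Fin r → K)
    (hs : N' ≤ N ⊔ Submodule.span R (Set.range g)) (hg : ∀ i, g i ∈ N')
    {d d' : K} (hd : IsDetGen N d) (hd' : IsDetGen N' d') :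
    ∃ k, k ≤ min s r ∧ ∃ c : Rˣ, d = ((c : R) * π ^ k) • d' := by
  classical
  obtain ⟨u'⟩ := exists_basis N' hfg' (top_le_iff.1 (hN ▸ Submodule.span_mono hle))
  obtain ⟨u⟩ := exists_basis N hfg hN
  let N₀ := N.comap N'.subtype
  let e₀ : N₀ ≃ₗ[R] N := Submodule.comapSubtypeEquivOfLe hle
  obtain ⟨b', a, b, hab⟩ := Submodule.exists_smith_normal_form_of_rank_eq (N := N₀) u'
    (by rw [e₀.finrank_eq, Module.finrank_eq_card_basis u, Module.finrank_eq_card_basis u'])
  have ha : ∀ i, a i ∣ π := fun i => by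
    obtain ⟨c, hc⟩ : ∃ c : R, c * a i = π := by
      have hm : π • b' i ∈ N₀ := hk _ (b' i).2
      refine ⟨b.repr ⟨_, hm⟩ i, ?_⟩
      have h2 : (π • b' i : N') = ∑ j, (b.repr ⟨_, hm⟩ j * a j) • b' j := by
        conv_lhs => rw [show (π • b' i : N') = ((⟨_, hm⟩ : N₀) : N') from rfl, ← b.sum_repr ⟨_, hm⟩]
        rw [Submodule.coe_sum]
        refine Finset.sum_congr rfl fun j _ => ?_
        rw [Submodule.coe_smul, hab, mul_smul]
      have := congrArg (fun z => b'.repr z i) h2
      simpa [Finsupp.single_apply] using this.symm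
    exact ⟨c, by rw [← hc, mul_comm]⟩
  let S : Finset (Fin r) := Finset.univ.filter fun i => ¬IsUnit (a i)
  have hS : S.card ≤ s := by
    let κ := ResidueField R
    let q : N' →ₗ[R] (S → κ) := LinearMap.pi fun i =>
      (Algebra.linearMap R κ).comp ((Finsupp.lapply (i : Fin r)).comp b'.repr.toLinearMap)
    have hq : ∀ (z : N') (i : S), q z i = residue R (b'.repr z i) := fun z i => rfl
    have hqN : ∀ z : N', (z : Fin r → K) ∈ N → q z = 0 := fun z hz => by
      have hz' : z ∈ N₀ := hz
      funext i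
      rw [hq, Pi.zero_apply, IsLocalRing.residue_eq_zero_iff]
      have h2 : b'.repr z i = b.repr ⟨z, hz'⟩ i * a i := by
        conv_lhs => rw [show z = ((⟨z, hz'⟩ : N₀) : N') from rfl, ← b.sum_repr ⟨z, hz'⟩]
        simp only [Submodule.coe_sum, Submodule.coe_smul, hab, map_sum, map_smul, Basis.repr_self]
        simp [Finsupp.single_apply]
      rw [h2]
      exact Ideal.mul_mem_left _ _ ((mem_maximalIdeal _).2 (Finset.mem_filter.1 i.2).2)
    have htop : Submodule.span κ (Set.range fun j => q ⟨g j, hg j⟩) = ⊤ := by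
      refine eq_top_iff.2 fun w _ => ?_
      choose l hl using fun i => IsLocalRing.residue_surjective (w i)
      let z : N' := ∑ i : S, l i • b' i
      have hz : q z = w := by
        funext i
        rw [hq, ← hl i]
        simp [z, Finsupp.single_apply]
      obtain ⟨n, hn, m, hm, hnm⟩ := Submodule.mem_sup.1 (hs z.2)
      obtain ⟨c, rfl⟩ := Submodule.mem_span_range_iff_exists_fun R |>.1 hm
      have hz2 : z = ⟨n, hle hn⟩ + ∑ j, c j • (⟨g j, hg j⟩ : N') := Subtype.ext (by simp [hnm])
      rw [← hz, hz2, map_add, hqN _ hn, zero_add, map_sum]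
      refine Submodule.sum_mem _ fun j _ => ?_
      rw [map_smul, ← algebraMap_smul κ (c j)]
      exact Submodule.smul_mem _ _ (Submodule.subset_span ⟨j, rfl⟩)
    have := finrank_range_le_card (R := κ) (fun j => q ⟨g j, hg j⟩)
    rw [Set.finrank, htop, finrank_top, Module.finrank_fintype_fun_eq_card] at this
    simpa using this
  obtain ⟨c₁, hc₁⟩ := isDetGen_unique hd (isDetGen_of_basis N (b.map e₀))
  obtain ⟨c₂, hc₂⟩ := isDetGen_unique (isDetGen_of_basis N' b') hd'
  have hprod : detV (fun i => ((b.map e₀) i : Fin r → K)) =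
      (∏ i, a i) • detV (fun i => (b' i : Fin r → K)) := by
    have h1 : (fun i => ((b.map e₀) i : Fin r → K)) =
        fun i => algebraMap R K (a i) • (b' i : Fin r → K) := funext fun i => by
      rw [algebraMap_smul]
      show ((b i : N') : Fin r → K) = _
      rw [hab]; rfl
    rw [h1, AlternatingMap.map_smul_univ, ← algebraMap_smul K (∏ i, a i), map_prod]
  have hu : ∀ i, ∃ c : Rˣ, a i = (c : R) * π ^ (if IsUnit (a i) then 0 else 1) := fun i => by
    by_cases h : IsUnit (a i)
    · exact ⟨h.unit, by simp [h]⟩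
    · obtain ⟨c, hc⟩ := ((hπ.dvd_iff.1 (ha i)).resolve_left h).symm
      exact ⟨c⁻¹, by rw [if_neg h, pow_one, ← hc, mul_left_comm, Units.inv_mul, mul_one]⟩
  choose c hc using hu
  refine ⟨S.card, le_min hS ((Finset.card_le_univ S).trans (Fintype.card_fin r).le),
    c₁ * c₂ * ∏ i, c i, ?_⟩
  have hsum : (∑ i, if IsUnit (a i) then 0 else 1 : ℕ) = S.card := by
    rw [Finset.card_filter]
    exact Finset.sum_congr rfl fun i _ => by by_cases h : IsUnit (a i) <;> simp [h]
  have hall : ∏ i, a i = (∏ i, (c i : R)) * π ^ S.card := by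
    rw [Finset.prod_congr rfl (fun i _ => hc i), Finset.prod_mul_distrib, Finset.prod_pow_eq_pow_sum, hsum]
  rw [hc₁, hprod, hc₂, hall]
  simp only [smul_smul, Units.val_mul, Units.coe_prod]
  congr 1
  ring

end Groth.Agent.Div89.DetTwist
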