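import Groth.Agent.Div89.DetTwist.Hulls
import Groth.Agent.Div89.DetTwist.Curve
import Groth.Agent.QC70.PushClosed

/-! Modifications along an integral divisor. -/

set_option autoImplicit false
set_option linter.style.haveILetI false
set_option backward.isDefEq.respectTransparency.types false

noncomputable section

universe u

open CategoryTheory CategoryTheory.Limits AlgebraicGeometry TopologicalSpace IsLocalRing Module
open Groth.Agent.QC70 Groth.Agent.Props58.LocFree Groth.Agent.Div89.Ref1

namespace Groth.Agent.Div89.DetTwist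

variable {X : Scheme.{u}} [IsIntegral X] {r : ℕ}

/-- Coordinates from a free restriction. -/
lemma exists_coord_equiv (F : X.Modules) (U : X.Opens) (hU : (U : Set X).Nonempty)
    (h : FlatMod.IsFinLocFreeOfRank r (F.restrict U.ι)) : Nonempty (Coord F r) := by
  have hη : genericPoint X ∈ U := mem_generic U hU
  obtain ⟨V, hV, ⟨i⟩⟩ := h ⟨genericPoint X, hη⟩
  obtain ⟨s, hs⟩ := exists_stalkBasis_of_iso i
  let e0 := hs.stalkEquiv ⟨genericPoint X, hη⟩ hV
  let σ : X.functionField ≃+* (U : Scheme.{u}).presheaf.stalk ⟨genericPoint X, hη⟩ :=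
    (asIso (U.ι.stalkMap ⟨genericPoint X, hη⟩)).commRingCatIsoToRingEquiv
  let e : F.presheaf.stalk (genericPoint X) ≃+ (F.restrict U.ι).presheaf.stalk ⟨genericPoint X, hη⟩ :=
    FBase64.AssSheaf.restrictStalkEquiv U.ι F ⟨genericPoint X, hη⟩
  have he : ∀ a m, e (a • m) = σ a • e m :=
    FBase64.AssSheaf.restrictStalkEquiv_smul U.ι F ⟨genericPoint X, hη⟩
  let f : F.presheaf.stalk (genericPoint X) →ₗ[X.presheaf.stalk (genericPoint X)] (Fin r → X.functionField) :=
    { toFun := fun z j => σ.symm (e0.symm (e z) j)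
      map_add' := fun a b => by funext j; simp only [map_add, Pi.add_apply]
      map_smul' := fun a z => by
        funext j
        rw [he, map_smul, Pi.smul_apply, smul_eq_mul, map_mul, RingEquiv.symm_apply_apply]
        rfl }
  refine ⟨LinearEquiv.ofBijective f ⟨fun a b h => ?_, fun w => ?_⟩⟩
  · refine e.injective (e0.symm.injective (funext fun j => σ.symm.injective (congrFun h j)))
  · refine ⟨e.symm (e0 fun j => σ (w j)), ?_⟩
    funext j
    show σ.symm (e0.symm (e (e.symm (e0 fun j => σ (w j)))) j) = w j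
    rw [AddEquiv.apply_symm_apply, LinearEquiv.symm_apply_apply, RingEquiv.symm_apply_apply]

/-- A surjection between generic stalks of the same rank is bijective. -/
lemma bijective_of_surjective {F F' : X.Modules} (ν : Coord F r) (ν' : Coord F' r) (a : F ⟶ F')
    (h : Function.Surjective (RefHull.stalkMapₗ a (genericPoint X))) :
    Function.Bijective (RefHull.stalkMapₗ a (genericPoint X)) := by
  refine ⟨?_, h⟩
  let g : (Fin r → X.functionField) →ₗ[X.functionField] (Fin r → X.functionField) :=
    ν'.toLinearMap.comp ((RefHull.stalkMapₗ a (genericPoint X)).comp ν.symm.toLinearMap)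
  have hg : Function.Surjective g := ν'.surjective.comp (h.comp ν.symm.surjective)
  have hi := LinearMap.injective_iff_surjective.2 hg
  intro p q hpq
  refine ν.injective (hi ?_)
  show ν' (RefHull.stalkMapₗ a _ (ν.symm (ν p))) = ν' (RefHull.stalkMapₗ a _ (ν.symm (ν q)))
  rw [LinearEquiv.symm_apply_apply, LinearEquiv.symm_apply_apply, hpq]

/-- Exactness on stalks. -/
lemma stalk_exact {F F' G : X.Modules} (a : F ⟶ F') (b : F' ⟶ G) (w : a ≫ b = 0)
    (hex : (ShortComplex.mk a b w).Exact) (x : X) (z : F'.presheaf.stalk x) :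
    RefHull.stalkMapₗ b x z = 0 ↔ ∃ y, RefHull.stalkMapₗ a x y = z := by
  constructor
  · intro hz
    haveI : Epi (kernel.lift b a w) := hex.epi_kernelLift
    let S := ShortComplex.mk (kernel.ι b) b (kernel.condition b)
    have hS : S.Exact := ShortComplex.exact_of_f_is_kernel S (kernelIsKernel b)
    haveI : Mono S.f := inferInstanceAs (Mono (kernel.ι b))
    obtain ⟨d, hd⟩ := stalkMapM_exact S hS x z hz
    obtain ⟨y, rfl⟩ := surjective_stalkMapM_of_epi (kernel.lift b a w) x d
    refine ⟨y, ?_⟩
    rw [← hd]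
    obtain ⟨W, hx, s, rfl⟩ := germM_exist y
    rw [RefHull.stalkMapₗ_germ, stalkMapM_germ, stalkMapM_germ]
    exact congrArg (germM F' W x hx) (congr($((kernel.lift_ι b a w).symm).app W s))
  · rintro ⟨y, rfl⟩
    obtain ⟨W, hx, s, rfl⟩ := germM_exist y
    rw [RefHull.stalkMapₗ_germ, RefHull.stalkMapₗ_germ]
    exact (congrArg (germM G W x hx) (congr($(w).app W s))).trans (germM_zero hx)

variable {Z : Scheme.{u}} (i : Z ⟶ X) [IsClosedImmersion i] (G : Z.Modules)

omit [IsIntegral X] in
lemma pushforward_stalk_eq_zero {x : X} (hx : x ∉ Set.range i)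
    (e : ((Scheme.Modules.pushforward i).obj G).presheaf.stalk x) : e = 0 := by
  obtain ⟨W, hxW, s, rfl⟩ := germM_exist e
  let V : X.Opens := ⟨(Set.range i)ᶜ, i.isClosedEmbedding.isClosed_range.isOpen_compl⟩
  have hxV : x ∈ W ⊓ V := ⟨hxW, hx⟩
  have he : i ⁻¹ᵁ (W ⊓ V) = ⊥ := by
    ext z
    exact ⟨fun h => (h.2 ⟨z, rfl⟩).elim, fun h => h.elim⟩
  rw [← germM_res (inf_le_left : W ⊓ V ≤ W) hxV s]
  refine (congrArg (germM _ (W ⊓ V) x hxV) ?_).trans (germM_zero hxV)
  exact section_ext G _ _ fun p hp => (he.le hp).elim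

omit [IsIntegral X] in
/-- The stalk of the direct image needs no more generators than the rank. -/
lemma exists_generators {s : ℕ} (hG : FlatMod.IsFinLocFreeOfRank s G) (z : Z) :
    ∃ g : Fin s → ((Scheme.Modules.pushforward i).obj G).presheaf.stalk (i z),
      Submodule.span (X.presheaf.stalk (i z)) (Set.range g) = ⊤ := by
  obtain ⟨V, hV, ⟨t⟩⟩ := hG z
  obtain ⟨σ, hσ⟩ := exists_stalkBasis_of_iso t
  choose g hg using fun l => (bijective_pushStalk i G z).2 (germM G V z hV (σ l))
  refine ⟨g, eq_top_iff.2 fun e _ => ?_⟩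
  obtain ⟨c, hc⟩ := (hσ z hV).2 (pushStalk i G z e)
  choose c' hc' using fun l => i.stalkMap_surjective z (c l)
  rw [Submodule.mem_span_range_iff_exists_fun]
  refine ⟨c', (bijective_pushStalk i G z).1 ?_⟩
  rw [map_sum, ← hc]
  refine Finset.sum_congr rfl fun l _ => ?_
  rw [pushStalk_smul, hg, hc']

end Groth.Agent.Div89.DetTwist
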